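import Mathlib
import Cfsg.Prelude.Def_Classical
import Cfsg.Agent.Lib.Helper13.S5955.Defs

set_option autoImplicit false

/-!
# Project S5953 (PSU_n(q) on totally isotropic m-spaces): definitions

Everything lives on the concrete space `Fin n → F` with the hermitian form `Cfsg.hermForm n F q` of the Prelude
(`|F| = q ^ 2`).  `SInv`, `fixS`, `cycS` are those of `Helper13.S5955.Defs` (`SInv` is helper24's `ElInv`).
-/

namespace Cfsg.Agent.Lib.Helper21.S5953

open Polynomial Module

variable {F : Type*} [Field F] {n : ℕ}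

/-- `W` is invariant under `x` (helper24's `ElInv`) -/
abbrev SInv (x : Module.End F (Fin n → F)) (W : Submodule F (Fin n → F)) : Prop :=
  Cfsg.Agent.Lib.Helper24.ElInv x W

/-- the fixed space `ker (x - 1)` -/
noncomputable abbrev fixS (x : Module.End F (Fin n → F)) : Submodule F (Fin n → F) :=
  Cfsg.Agent.Lib.Helper13.S5955.fixS x

/-- the cyclotomic part `ker Φ_r(x)` -/
noncomputable abbrev cycS (r : ℕ) (x : Module.End F (Fin n → F)) : Submodule F (Fin n → F) :=
  Cfsg.Agent.Lib.Helper13.S5955.cycS r x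

/-- `W` is totally isotropic -/
def HTI (q : ℕ) (W : Submodule F (Fin n → F)) : Prop :=
  ∀ u ∈ W, ∀ v ∈ W, Cfsg.hermForm n F q u v = 0

/-- the form is non-degenerate on `N` -/
def HND (q : ℕ) (N : Submodule F (Fin n → F)) : Prop :=
  ∀ u ∈ N, (∀ v ∈ N, Cfsg.hermForm n F q u v = 0) → u = 0

/-- `U` and `W` are orthogonal -/
def HOrth (q : ℕ) (U W : Submodule F (Fin n → F)) : Prop :=
  ∀ u ∈ U, ∀ w ∈ W, Cfsg.hermForm n F q u w = 0

/-- the orthogonal `{u | ∀ w ∈ U, h(u, w) = 0}` (the form is linear in the first variable; for `|F| = q ^ 2` it is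
conjugate-symmetric, so this is also `{u | ∀ w ∈ U, h(w, u) = 0}`) -/
def hperp (q : ℕ) (U : Submodule F (Fin n → F)) : Submodule F (Fin n → F) where
  carrier := {u | ∀ w ∈ U, Cfsg.hermForm n F q u w = 0}
  add_mem' := by
    intro a b ha hb w hw
    have h1 := ha w hw
    have h2 := hb w hw
    simp only [Cfsg.hermForm, Pi.add_apply, add_mul, Finset.sum_add_distrib] at h1 h2 ⊢
    rw [h1, h2, add_zero]
  zero_mem' := by
    intro w _
    simp [Cfsg.hermForm]
  smul_mem' := by
    intro c a ha w hw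
    have h1 := ha w hw
    simp only [Cfsg.hermForm, Pi.smul_apply, smul_eq_mul, mul_assoc] at h1 ⊢
    rw [← Finset.mul_sum, h1, mul_zero]

theorem mem_hperp (q : ℕ) (U : Submodule F (Fin n → F)) (u : Fin n → F) :
    u ∈ hperp q U ↔ ∀ w ∈ U, Cfsg.hermForm n F q u w = 0 := Iff.rfl

/-- the context: `x` is an isometry with `x ^ r = z • 1`, `z ≠ 0` (`z = 1` for the split elements) -/
structure HCtx (q r : ℕ) (z : F) (x : Module.End F (Fin n → F)) : Prop where
  pres : ∀ u v, Cfsg.hermForm n F q (x u) (x v) = Cfsg.hermForm n F q u v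
  pow : x ^ r = z • 1
  ne : z ≠ 0

/-- `m` is the dimension of some totally isotropic invariant subspace -/
def HTId (q : ℕ) (x : Module.End F (Fin n → F)) (m : ℕ) : Prop :=
  ∃ W : Submodule F (Fin n → F), SInv x W ∧ HTI q W ∧ Module.finrank F W = m

/-- the set of totally isotropic `m`-spaces, as in the frozen statement -/
abbrev HTIm (n m : ℕ) (F : Type*) [Field F] (q : ℕ) : Type _ :=
  {W : Submodule F (Fin n → F) //
    Module.finrank F ↥W = m ∧ (∀ u ∈ W, ∀ v ∈ W, Cfsg.hermForm n F q u v = 0)}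

/-- the block dimension `b = ord_r(q²)` in terms of `i = ord_r(q)` -/
def bb (i : ℕ) : ℕ := if Even i then i / 2 else i

/-- the non-degenerate block dimension `c = ord_r(-q)` in terms of `i = ord_r(q)` -/
def cc (i : ℕ) : ℕ := if i % 4 = 0 then i else if i % 4 = 2 then i / 2 else 2 * i

end Cfsg.Agent.Lib.Helper21.S5953
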